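import Mathlib
import Groth.Agent.H9.FlatTensorTower
import Groth.Agent.H2.Tor1

/-!
# Flatness over a base ring and localization
-/

set_option autoImplicit false
universe u
open TensorProduct

namespace Groth.Agent.H71.FlatOver

section L1

variable {R B : Type u} [CommRing R] [CommRing B] [Algebra R B] (S : Submonoid B)
  {N Np : Type u} [AddCommGroup N] [Module R N] [Module B N] [IsScalarTower R B N]
  [AddCommGroup Np] [Module R Np] [Module B Np] [IsScalarTower R B Np]

/-- a localization (over `B`) of a `B`-module flat over `R` is flat over `R` -/
theorem flat_of_isLocalizedModule (g : N →ₗ[B] Np) [IsLocalizedModule S g] [Module.Flat R N] :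
    Module.Flat R Np := by
  haveI : Module.Flat B (Localization S) := IsLocalization.flat _ S
  haveI h1 : Module.Flat R (Localization S ⊗[B] N) := Groth.Agent.H9.flat_tensor_tower
  let e1 : Localization S ⊗[B] N ≃ₗ[Localization S] LocalizedModule S N :=
    (IsLocalizedModule.isBaseChange S (Localization S) (LocalizedModule.mkLinearMap S N)).equiv
  let e2 : LocalizedModule S N ≃ₗ[B] Np := IsLocalizedModule.iso S g
  let e : Localization S ⊗[B] N ≃ₗ[R] Np :=
    (e1.restrictScalars R).trans (e2.restrictScalars R)
  exact Module.Flat.of_linearEquiv e.symm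

/-- flatness over `R` of a `B`-module can be checked after localizing at the maximal ideals of
`B` -/
theorem flat_of_localized_maximal (N : Type u) [AddCommGroup N] [Module R N] [Module B N]
    [IsScalarTower R B N]
    (H : ∀ (P : Ideal B) [P.IsMaximal], Module.Flat R (LocalizedModule P.primeCompl N)) :
    Module.Flat R N :=
  Module.flat_of_isLocalized_maximal B N (fun P _ => LocalizedModule P.primeCompl N)
    (fun P _ => LocalizedModule.mkLinearMap P.primeCompl N) H

end L1

section TwoOfThree

variable {R : Type u} [CommRing R] {M₁ M₂ M₃ : Type u} [AddCommGroup M₁] [Module R M₁]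
  [AddCommGroup M₂] [Module R M₂] [AddCommGroup M₃] [Module R M₃]

open Groth.Agent.H2 in
/-- in a short exact sequence with flat cokernel, the middle term is flat iff the kernel is -/
theorem flat_iff_of_exact_of_flat_right (f : M₁ →ₗ[R] M₂) (g : M₂ →ₗ[R] M₃)
    (hf : Function.Injective f) (hfg : Function.Exact f g) (hg : Function.Surjective g)
    [Module.Flat R M₃] : Module.Flat R M₂ ↔ Module.Flat R M₁ := by
  constructor
  · intro h2
    rw [Module.Flat.iff_rTensor_injective']
    intro I
    rw [injective_iff_map_eq_zero]
    intro x hx
    have hinj : Function.Injective (f.lTensor I) :=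
      lTensor_injective_of_tor1Zero f g hf hfg hg tor1Zero_of_flat_left
    apply hinj
    rw [map_zero]
    have h2' : Function.Injective (I.subtype.rTensor M₂) :=
      Module.Flat.rTensor_preserves_injective_linearMap _ (Submodule.injective_subtype I)
    apply h2'
    rw [map_zero, ← LinearMap.comp_apply, LinearMap.rTensor_comp_lTensor,
      ← LinearMap.lTensor_comp_rTensor, LinearMap.comp_apply, hx, map_zero]
  · intro h1
    rw [flat_iff_forall_tor1Zero]
    intro Q _ _
    rw [tor1Zero_comm]
    exact tor1Zero_of_exact f g hf hfg hg tor1Zero_of_flat_left tor1Zero_of_flat_left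

end TwoOfThree

end Groth.Agent.H71.FlatOver
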