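import Mathlib
import Groth.Agent.H9.FlatTensorTower

/-!
# Localization of a base change is the base change of the localization

`A → B`, `Aq` a localization of `A`, `Bp` a localization of `B`, `Aq → Bp` compatible.
For an `A`-module `N` with localization `Nq` (over `Aq`) and `Q` the localization (over `Bp`) of
`B ⊗[A] N`:  `Bp ⊗[Aq] Nq ≃ₗ[Bp] Q`.
Then flatness over a further base `R` passes between `Nq` and `Q` when `Aq → Bp` is (faithfully)
flat.
-/

set_option autoImplicit false
universe u
open TensorProduct

namespace Groth.Agent.H71.FlatOver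

section L10

variable {A B Aq Bp : Type u} [CommRing A] [CommRing B] [CommRing Aq] [CommRing Bp]
  [Algebra A B] [Algebra A Aq] [Algebra B Bp] [Algebra Aq Bp] [Algebra A Bp]
  [IsScalarTower A Aq Bp] [IsScalarTower A B Bp]
  (SA : Submonoid A) (SB : Submonoid B) [IsLocalization SA Aq] [IsLocalization SB Bp]
  {N Nq Q : Type u} [AddCommGroup N] [Module A N] [AddCommGroup Nq] [Module A Nq] [Module Aq Nq]
  [IsScalarTower A Aq Nq]
  [AddCommGroup Q] [Module A Q] [Module B Q] [Module Bp Q] [IsScalarTower B Bp Q]
  [IsScalarTower A B Q] [IsScalarTower A Bp Q]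
  (gN : N →ₗ[A] Nq) [IsLocalizedModule SA gN] (gQ : B ⊗[A] N →ₗ[B] Q) [IsLocalizedModule SB gQ]

/-- the localization of `B ⊗[A] N` is `Bp ⊗[Aq] Nq` -/
noncomputable def stalkBaseChangeEquiv : Bp ⊗[Aq] Nq ≃ₗ[Bp] Q :=
  have h1 : IsBaseChange Aq gN := IsLocalizedModule.isBaseChange SA Aq gN
  have h2 : IsBaseChange Bp gQ := IsLocalizedModule.isBaseChange SB Bp gQ
  have h3 : IsBaseChange B (TensorProduct.mk A B N 1) := TensorProduct.isBaseChange A N B
  have h4 : IsBaseChange Bp ((gQ.restrictScalars A).comp (TensorProduct.mk A B N 1)) :=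
    IsBaseChange.comp h3 h2
  (TensorProduct.AlgebraTensorModule.congr (LinearEquiv.refl Bp Bp) h1.equiv.symm) ≪≫ₗ
    (TensorProduct.AlgebraTensorModule.cancelBaseChange A Aq Bp Bp N) ≪≫ₗ h4.equiv

end L10

section Descent

variable {R S S' M : Type u} [CommRing R] [CommRing S] [CommRing S'] [Algebra R S] [Algebra S S']
  [Algebra R S'] [IsScalarTower R S S'] [AddCommGroup M] [Module R M] [Module S M]
  [IsScalarTower R S M]

/-- descent of flatness over `R` along a faithfully flat `S → S'` -/
theorem flat_of_flat_tensor_tower [Module.FaithfullyFlat S S'] [Module.Flat R (S' ⊗[S] M)] :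
    Module.Flat R M := by
  rw [Module.Flat.iff_lTensor_preserves_injective_linearMap]
  intro N' N _ _ _ _ f hf
  have h0 : Function.Injective (LinearMap.lTensor (S' ⊗[S] M) f) :=
    Module.Flat.lTensor_preserves_injective_linearMap _ hf
  have hsq : ∀ w : (S' ⊗[S] M) ⊗[R] N',
      TensorProduct.AlgebraTensorModule.assoc R S S' S' M N (LinearMap.lTensor (S' ⊗[S] M) f w) =
        LinearMap.lTensor S' (TensorProduct.AlgebraTensorModule.lTensor S M f)
          (TensorProduct.AlgebraTensorModule.assoc R S S' S' M N' w) := by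
    intro w
    induction w using TensorProduct.induction_on with
    | zero => simp
    | tmul v n =>
      induction v using TensorProduct.induction_on with
      | zero => simp
      | tmul s m => rfl
      | add a b ha hb =>
        rw [TensorProduct.add_tmul, map_add, map_add, ha, hb, map_add, map_add]
    | add a b ha hb => rw [map_add, map_add, ha, hb, map_add, map_add]
  have h2 : Function.Injective
      (LinearMap.lTensor S' (TensorProduct.AlgebraTensorModule.lTensor S M f)) := by
    intro a b hab
    obtain ⟨a', rfl⟩ := (TensorProduct.AlgebraTensorModule.assoc R S S' S' M N').surjective a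
    obtain ⟨b', rfl⟩ := (TensorProduct.AlgebraTensorModule.assoc R S S' S' M N').surjective b
    rw [← hsq, ← hsq] at hab
    have := h0 ((TensorProduct.AlgebraTensorModule.assoc R S S' S' M N).injective hab)
    rw [this]
  have h1 : Function.Injective (TensorProduct.AlgebraTensorModule.lTensor S M f) :=
    (Module.FaithfullyFlat.lTensor_injective_iff_injective S S' _).1 h2
  exact h1

end Descent

section L9

variable {R Aq Bp : Type u} [CommRing R] [CommRing Aq] [CommRing Bp] [Algebra R Aq]
  [Algebra Aq Bp] [Algebra R Bp] [IsScalarTower R Aq Bp]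
  {Nq Q : Type u} [AddCommGroup Nq] [Module R Nq] [Module Aq Nq] [IsScalarTower R Aq Nq]
  [AddCommGroup Q] [Module R Q] [Module Bp Q] [IsScalarTower R Bp Q]

theorem flat_of_equiv_baseChange (e : Bp ⊗[Aq] Nq ≃ₗ[Bp] Q) [Module.Flat Aq Bp]
    [Module.Flat R Nq] : Module.Flat R Q := by
  haveI : Module.Flat R (Bp ⊗[Aq] Nq) := Groth.Agent.H9.flat_tensor_tower
  exact Module.Flat.of_linearEquiv (e.restrictScalars R).symm

theorem flat_of_equiv_baseChange_of_faithfullyFlat (e : Bp ⊗[Aq] Nq ≃ₗ[Bp] Q)
    [Module.FaithfullyFlat Aq Bp] [Module.Flat R Q] : Module.Flat R Nq := by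
  haveI : Module.Flat R (Bp ⊗[Aq] Nq) := Module.Flat.of_linearEquiv (e.restrictScalars R)
  exact flat_of_flat_tensor_tower (S := Aq) (S' := Bp)

end L9

end Groth.Agent.H71.FlatOver
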