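import Mathlib
import Groth.Agent.H71.FlatOver.Alg

/-!
# Flat base change, pointwise form

`B' = A' ⊗[A] B` a pushout of rings, `M` a `B`-module, `Mp` a localization of `M` (at `SB ⊆ B`) which
is flat over `A`.  Then any localization `Q` of `B' ⊗[B] M` at `SB' ⊇ image of SB` is flat over `A'`.
-/

set_option autoImplicit false
universe u
open TensorProduct

namespace Groth.Agent.H71.FlatOver

section L12

variable {B B' : Type u} [CommRing B] [CommRing B'] [Algebra B B']
  (SB : Submonoid B) (SB' : Submonoid B') (hS : ∀ s ∈ SB, algebraMap B B' s ∈ SB')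
  {M Mp Q : Type u} [AddCommGroup M] [Module B M] [AddCommGroup Mp] [Module B Mp]
  [AddCommGroup Q] [Module B' Q] [Module B Q] [IsScalarTower B B' Q]
  (gM : M →ₗ[B] Mp) [IsLocalizedModule SB gM]
  (gQ : B' ⊗[B] M →ₗ[B'] Q) [IsLocalizedModule SB' gQ]

include hS gQ in
theorem isUnit_algebraMap_end (s : SB) :
    IsUnit (algebraMap B (Module.End B Q) s) := by
  have h := IsLocalizedModule.map_units gQ ⟨algebraMap B B' s, hS s s.2⟩
  rw [Module.End.isUnit_iff] at h ⊢
  have : ⇑(algebraMap B (Module.End B Q) s) =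
      ⇑(algebraMap B' (Module.End B' Q) (algebraMap B B' s)) := by
    funext q
    simp only [Module.algebraMap_end_apply]
    rw [algebraMap_smul]
  rw [this]
  exact h

/-- the induced map `Mp → Q` -/
noncomputable def stageMap₀ : Mp →ₗ[B] Q :=
  IsLocalizedModule.lift SB gM
    ((gQ.restrictScalars B).comp (TensorProduct.mk B B' M 1))
    (fun s => isUnit_algebraMap_end SB SB' hS gQ s)

/-- the induced map `B' ⊗[B] Mp → Q` -/
noncomputable def stageMap : B' ⊗[B] Mp →ₗ[B'] Q :=
  LinearMap.liftBaseChange B' (stageMap₀ SB SB' hS gM gQ)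

theorem stageMap_tmul (b : B') (m : M) :
    stageMap SB SB' hS gM gQ (b ⊗ₜ gM m) = gQ (b ⊗ₜ m) := by
  rw [stageMap, LinearMap.liftBaseChange_tmul, stageMap₀, IsLocalizedModule.lift_apply]
  simp only [LinearMap.coe_comp, LinearMap.coe_restrictScalars, Function.comp_apply,
    TensorProduct.mk_apply]
  rw [← map_smul, TensorProduct.smul_tmul', smul_eq_mul, mul_one]

theorem stageMap_baseChange (z : B' ⊗[B] M) :
    stageMap SB SB' hS gM gQ (gM.baseChange B' z) = gQ z := by
  induction z using TensorProduct.induction_on with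
  | zero => simp
  | tmul b m => rw [LinearMap.baseChange_tmul, stageMap_tmul]
  | add a b ha hb => rw [map_add, map_add, ha, hb, map_add]

theorem exists_smul_eq_baseChange (a : B' ⊗[B] Mp) :
    ∃ t ∈ SB, ∃ z : B' ⊗[B] M, algebraMap B B' t • a = gM.baseChange B' z := by
  induction a using TensorProduct.induction_on with
  | zero => exact ⟨1, SB.one_mem, 0, by simp⟩
  | tmul b mp =>
    obtain ⟨⟨m, t⟩, ht⟩ := IsLocalizedModule.surj SB gM mp
    refine ⟨t, t.2, b ⊗ₜ m, ?_⟩
    rw [LinearMap.baseChange_tmul, ← ht, algebraMap_smul, TensorProduct.smul_tmul',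
      TensorProduct.smul_tmul]
    rfl
  | add a b ha hb =>
    obtain ⟨t₁, ht₁, z₁, h₁⟩ := ha
    obtain ⟨t₂, ht₂, z₂, h₂⟩ := hb
    refine ⟨t₁ * t₂, SB.mul_mem ht₁ ht₂, algebraMap B B' t₂ • z₁ + algebraMap B B' t₁ • z₂, ?_⟩
    rw [map_add, map_smul, map_smul, ← h₁, ← h₂, smul_add, map_mul, smul_smul, smul_smul,
      mul_comm (algebraMap B B' t₂)]

/-- localization in stages: `B' ⊗[B] Mp → Q` is a localization at `SB'` -/
theorem isLocalizedModule_stageMap :
    IsLocalizedModule SB' (stageMap SB SB' hS gM gQ) := by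
  refine ⟨fun s => IsLocalizedModule.map_units gQ s, ?_, ?_⟩
  · intro y
    obtain ⟨⟨z, s⟩, hz⟩ := IsLocalizedModule.surj SB' gQ y
    exact ⟨⟨gM.baseChange B' z, s⟩, by rw [stageMap_baseChange]; exact hz⟩
  · intro a b hab
    obtain ⟨t, ht, z, hz⟩ := exists_smul_eq_baseChange SB gM (a - b)
    have h0 : stageMap SB SB' hS gM gQ (a - b) = 0 := by rw [map_sub, hab, sub_self]
    have h1 : gQ z = 0 := by
      rw [← stageMap_baseChange SB SB' hS gM gQ, ← hz, map_smul, h0, smul_zero]
    have h1' : gQ z = gQ 0 := by rw [h1, map_zero]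
    obtain ⟨s, hs⟩ := IsLocalizedModule.exists_of_eq (S := SB') (f := gQ) h1'
    refine ⟨s * ⟨algebraMap B B' t, hS t ht⟩, ?_⟩
    have : (s * ⟨algebraMap B B' t, hS t ht⟩ : SB') • (a - b) = 0 := by
      rw [Submonoid.smul_def, Submonoid.coe_mul, mul_smul]
      change (s : B') • (algebraMap B B' t • (a - b)) = 0
      rw [hz, ← map_smul]
      have : (s : B') • z = 0 := by simpa [Submonoid.smul_def] using hs
      rw [this, map_zero]
    rw [smul_sub, sub_eq_zero] at this
    exact this

end L12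

section Final

variable {A A' B B' : Type u} [CommRing A] [CommRing A'] [CommRing B] [CommRing B']
  [Algebra A B] [Algebra A A'] [Algebra A' B'] [Algebra B B'] [Algebra A B']
  [IsScalarTower A B B'] [IsScalarTower A A' B'] [Algebra.IsPushout A A' B B']
  (SB : Submonoid B) (SB' : Submonoid B') (hS : ∀ s ∈ SB, algebraMap B B' s ∈ SB')
  {M Mp Q : Type u} [AddCommGroup M] [Module B M] [AddCommGroup Mp] [Module B Mp]
  [Module A Mp] [IsScalarTower A B Mp]
  [AddCommGroup Q] [Module B' Q] [Module B Q] [IsScalarTower B B' Q] [Module A' Q]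
  [IsScalarTower A' B' Q]
  (gM : M →ₗ[B] Mp) [IsLocalizedModule SB gM]
  (gQ : B' ⊗[B] M →ₗ[B'] Q) [IsLocalizedModule SB' gQ]

include hS gM gQ in
/-- pointwise flat base change -/
theorem flat_baseChange_localized [Module.Flat A Mp] : Module.Flat A' Q := by
  haveI : Module.Flat A' (B' ⊗[B] Mp) :=
    Module.Flat.of_linearEquiv (Algebra.IsPushout.cancelBaseChange A A' B B' Mp)
  haveI := isLocalizedModule_stageMap SB SB' hS gM gQ
  exact flat_of_isLocalizedModule (R := A') (B := B') SB' (stageMap SB SB' hS gM gQ)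

end Final

end Groth.Agent.H71.FlatOver
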